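import Cfsg.Agent.StemCert.Count
import Cfsg.Agent.Suzuki.EightMult.Data

/-! Checks of the multiplier certificate of Sz(8) on 65 points. -/

set_option autoImplicit false
set_option maxHeartbeats 0
set_option maxRecDepth 100000
set_option Elab.async false

namespace Cfsg.Agent.Suzuki.EightMult

open Cfsg.Agent.Compute Cfsg.Agent.StemCert

theorem shape_ok : cert.D.length = 3 ∧ cert.md = 29120 ∧ numForms cert.D = 29120 := by decide +kernel
theorem wf_ok : wfB cert.D = true := by decide +kernel
theorem top_ok : cert.topOK 3 = true := by decide +kernel
theorem rel_ok : allBelow cert.nRel cert.relOK = true := by decide +kernel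
theorem pow_ok : allBelow 3 cert.powOK = true := by decide +kernel
theorem commData_ok : allBelow 3 cert.commOK = true := by decide +kernel
theorem lv_ok : allBelow 3 cert.lvOK = true := by decide +kernel
theorem row_ok : allB cert.rowOK cert.rows = true := by decide +kernel
theorem rows_ok : cert.rowsV cert.rows multi.rowVals = true := by decide +kernel
theorem basis_ok : allBelow cert.dim (multi.basisOK cert) = true := by decide +kernel
theorem order_ok : allBelow multi.ords.length (multi.ordOK cert) = true := by decide +kernel
theorem below_ok : gensBelow 3 cert.D = true := by decide +kernel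
theorem blt_ok : allB (fun b => Nat.blt b 65) base = true := by decide +kernel
theorem distinct_ok : distinctB 7 codes cert.D base = true := by decide +kernel
theorem table_ok : allBelow 3 (cert.tableAt 7 codes base) = true := by decide +kernel
theorem comm_ok : allBelow 3 (cert.commAt 7 codes base) = true := by decide +kernel

theorem checked : multi.Checked cert 3 where
  wf := wf_ok
  top := top_ok
  rel := rel_ok
  pow := pow_ok
  comm := commData_ok
  lv := fun i hi => allBelow_eq_true.mp lv_ok i (shape_ok.1 ▸ hi)
  row := row_ok
  rows := rows_ok
  len := rfl
  basis := basis_ok
  order := order_ok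

end Cfsg.Agent.Suzuki.EightMult
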