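import Cfsg.Agent.Suzuki.EightMult.Chain
import Cfsg.Agent.Suzuki.EightMult.Check
import Cfsg.Agent.Suzuki.Aut
import Cfsg.Prelude.Def_KGroupFacts

/-!
The Schur multiplier of Sz(8) is the four-group: a certificate on the 65 points of the ovoid bounds
every stem extension, and a cover permutes four sheets over 65 + 520 blocks.
-/

set_option autoImplicit false
set_option maxHeartbeats 2000000
set_option maxRecDepth 100000

universe u

namespace Cfsg.Agent.Suzuki.EightMult

open Cfsg Cfsg.Agent.Compute Cfsg.Agent.StemCert Cfsg.Agent.StemCert.Sheets Cfsg.Agent.RankOne.Ovoid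
  MulAction Matrix
open scoped commutatorElement Pointwise

/-- The product in the field of eight elements, on codes. -/
noncomputable def mulC (a b : ℕ) : ℕ :=
  getField 3 0x73157889D3F0CFA868356EE0467B98BCBD10FAC688000000 (Nat.add (Nat.mul 8 a) b)

/-- The fourth power, on codes. -/
noncomputable def pow4 (a : ℕ) : ℕ := mulC (mulC a a) (mulC a a)

/-- The sixth power, on codes. -/
noncomputable def pow6 (a : ℕ) : ℕ := mulC (pow4 a) (mulC a a)

/-- A vector code from its coordinates. -/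
noncomputable def mk4 (a b c d : ℕ) : ℕ :=
  Nat.add a (Nat.add (Nat.mul 8 b) (Nat.add (Nat.mul 64 c) (Nat.mul 512 d)))

/-- The first coordinate of an ovoid point, on codes. -/
noncomputable def p0C (a b : ℕ) : ℕ := Nat.xor (Nat.xor (mulC a b) (pow6 a)) (pow4 b)

/-- The code of a translated vector. -/
noncomputable def trImg (a b c : ℕ) : ℕ :=
  mk4
    (Nat.xor (Nat.xor (Nat.xor (getField 3 c 0) (mulC a (getField 3 c 1)))
      (mulC (Nat.xor b (mulC a (pow4 a))) (getField 3 c 2))) (mulC (p0C a b) (getField 3 c 3)))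
    (Nat.xor (Nat.xor (getField 3 c 1) (mulC (pow4 a) (getField 3 c 2))) (mulC b (getField 3 c 3)))
    (Nat.xor (getField 3 c 2) (mulC a (getField 3 c 3)))
    (getField 3 c 3)

/-- The image of a vector code under an atom. -/
noncomputable def atImg (t c : ℕ) : ℕ :=
  cond (Nat.beq t 0) (mk4 (getField 3 c 3) (getField 3 c 2) (getField 3 c 1) (getField 3 c 0))
    (trImg (Nat.div (Nat.sub t 1) 8) (Nat.mod (Nat.sub t 1) 8) c)

/-- A product of atoms on vector codes. -/
noncomputable def atApp (wd : List ℕ) (c : ℕ) : ℕ :=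
  List.rec (motive := fun _ => ℕ) c (fun t _ y => atImg t y) wd

/-- A scalar multiple of a vector code. -/
noncomputable def smulC (a c : ℕ) : ℕ :=
  mk4 (mulC a (getField 3 c 0)) (mulC a (getField 3 c 1)) (mulC a (getField 3 c 2))
    (mulC a (getField 3 c 3))

theorem gens_ok : allBelow 3 (fun s => allB (fun t => Nat.blt t 65) (atWords.getD s []) &&
    allBelow 65 (fun p => Nat.blt (getField 7 (codes.getD s 0) p) 65 &&
      Nat.blt 0 (getField 3 (scaCodes.getD s 0) p) &&
      Nat.beq (atApp (atWords.getD s []) (getField 12 ptCode p))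
        (smulC (getField 3 (scaCodes.getD s 0) p) (getField 12 ptCode (getField 7 (codes.getD s 0) p)))))
      = true := by decide +kernel

theorem pts_ok : (Nat.beq (getField 12 ptCode 0) 1 && allBelow 64 (fun q =>
    Nat.beq (getField 12 ptCode (Nat.add q 1))
      (mk4 (p0C (Nat.div q 8) (Nat.mod q 8)) (Nat.mod q 8) (Nat.div q 8) 1))) = true := by decide +kernel

/-- The code of a product of commutators of lifts. -/
noncomputable def commCode (l : List (ℕ × ℕ)) : ℕ :=
  List.rec (motive := fun _ => ℕ) (sId 12 585)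
    (fun p _ r => sMul 12 585
      (sMul 12 585 (sMul 12 585 (sMul 12 585 (lifts.getD p.1 0) (lifts.getD p.2 0))
        (liftInvs.getD p.1 0)) (liftInvs.getD p.2 0)) r) l

theorem cover_codes : allBelow 3 (fun s => memB (lifts.getD s 0) (topGens coverChain) &&
    sOkB 12 585 (lifts.getD s 0) && sOkB 12 585 (liftInvs.getD s 0) &&
    Nat.beq (sMul 12 585 (liftInvs.getD s 0) (lifts.getD s 0)) (sId 12 585) &&
    allBelow 65 (fun q => Nat.beq (sAct 12 (lifts.getD s 0) (Nat.mul 4 q))
      (Nat.mul 4 (getField 7 (codes.getD s 0) q)))) = true := by decide +kernel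

theorem cent_codes : allBelow 2 (fun r => sOkB 12 585 (centCodes.getD r 0) &&
    allB (fun p => Nat.blt p.1 3 && Nat.blt p.2 3) (centPairs.getD r []) &&
    Nat.beq (commCode (centPairs.getD r [])) (centCodes.getD r 0) &&
    Nat.beq (sMul 12 585 (centCodes.getD r 0) (centCodes.getD r 0)) (sId 12 585) &&
    Nat.beq (sAct 12 (centCodes.getD r 0) 260) (Nat.add 261 r) &&
    allBelow 3 (fun s => Nat.beq (sMul 12 585 (lifts.getD s 0) (centCodes.getD r 0))
      (sMul 12 585 (centCodes.getD r 0) (lifts.getD s 0))) &&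
    allBelow 65 (fun q => Nat.beq (sAct 12 (centCodes.getD r 0) (Nat.mul 4 q)) (Nat.mul 4 q))) = true := by
  decide +kernel

theorem cent_both : Nat.beq (sAct 12 (centCodes.getD 0 0) (sAct 12 (centCodes.getD 1 0) 260)) 263 = true := by
  decide +kernel

attribute [local irreducible] sMul sId lifts liftInvs centCodes coverChain codes centPairs ptCode
  atWords scaCodes

section Field

variable {F : Type u} [Field F]

/-- A bit as a field element. -/
def bitF (b : Bool) : F := cond b 1 0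

/-- The element of a code. -/
def dec (w : F) (c : ℕ) : F :=
  bitF (c.testBit 0) + bitF (c.testBit 1) * w + bitF (c.testBit 2) * (w * w)

/-- The vector of a code. -/
def decV (w : F) (c : ℕ) : Fin 4 → F := fun i => dec w (getField 3 c i)

variable [Fintype F] (hF : Fintype.card F = 8)

include hF in
theorem exists_omega : ∃ w : F, w * w * w = w + 1 ∧ (1 : F) + 1 = 0 := by
  classical
  have h2 : (1 : F) + 1 = 0 := by
    have := (good_of_card (F := F) (m := 1) (by rw [hF]; norm_num)).two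
    rwa [one_add_one_eq_two]
  obtain ⟨w, hw⟩ : ∃ w : F, w ∉ ({0, 1} : Finset F) := by
    by_contra h
    push Not at h
    have := Finset.card_le_card (fun x (_ : x ∈ Finset.univ) => h x)
    rw [Finset.card_univ, hF] at this
    exact absurd (this.trans Finset.card_le_two) (by norm_num)
  simp only [Finset.mem_insert, Finset.mem_singleton, not_or] at hw
  have h7 : w ^ 7 = 1 := by
    have := FiniteField.pow_card_sub_one_eq_one w hw.1
    rwa [hF] at this
  have hn : (-1 : F) = 1 := by linear_combination -h2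
  have hfac : (w - 1) * ((w * w * w + w + 1) * (w * w * w + w * w + 1)) = 0 := by
    linear_combination h7 + (w ^ 4 - w ^ 3) * h2
  rcases mul_eq_zero.mp hfac with h | h
  · exact absurd (sub_eq_zero.mp h) hw.2
  rcases mul_eq_zero.mp h with h | h
  · exact ⟨w, by linear_combination h - (w + 1) * h2, h2⟩
  · exact ⟨w + 1, by linear_combination h + (w ^ 2 + w - 1) * h2, h2⟩

variable (w : F) (hw : w * w * w = w + 1) (h2 : (1 : F) + 1 = 0)

include h2 in
omit [Fintype F] in
theorem bitF_xor (a b : Bool) : (bitF (a ^^ b) : F) = bitF a + bitF b := by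
  cases a <;> cases b <;> simp [bitF, h2]

include h2 in
omit [Fintype F] in
theorem dec_xor (a b : ℕ) : dec w (Nat.xor a b) = dec w a + dec w b := by
  show dec w (a ^^^ b) = _
  simp only [dec, Nat.testBit_xor, bitF_xor h2]
  ring

omit [Fintype F] in
theorem dec_basics : dec w 0 = 0 ∧ dec w 1 = 1 := by
  constructor <;> simp [dec, bitF, Nat.testBit_eq_decide_div_mod_eq]

include h2 in
omit [Fintype F] in
theorem two_zero (x : F) : x + x = 0 := by linear_combination x * h2

include hw h2 in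
omit [Fintype F] in
theorem dec_mul {a b : ℕ} (ha : a < 8) (hb : b < 8) : dec w (mulC a b) = dec w a * dec w b := by
  have hsplit : ∀ a, a < 8 → ∀ b, b < 8 → ∀ c, c < 8 →
      mulC (Nat.xor a b) c = Nat.xor (mulC a c) (mulC b c) ∧
      mulC c (Nat.xor a b) = Nat.xor (mulC c a) (mulC c b) := by decide +kernel
  have hb3 : ∀ i, i < 3 → ∀ j, j < 3 → dec w (mulC (2 ^ i) (2 ^ j)) = dec w (2 ^ i) * dec w (2 ^ j) := by
    intro i hi j hj
    interval_cases i <;> interval_cases j <;>
      simp [dec, bitF, mulC, getField, Nat.testBit_eq_decide_div_mod_eq] <;>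
      first
        | ring1
        | linear_combination -hw
        | linear_combination -w * hw
        | linear_combination -hw - w * h2
  have hlin : ∀ c, c < 8 → c = Nat.xor (Nat.xor (cond (c.testBit 0) (2 ^ 0) 0) (cond (c.testBit 1) (2 ^ 1) 0))
      (cond (c.testBit 2) (2 ^ 2) 0) := by decide +kernel
  have hz : ∀ c, c < 8 → mulC 0 c = 0 ∧ mulC c 0 = 0 := by decide +kernel
  have hone : ∀ a, a < 8 → ∀ j, j < 3 → dec w (mulC a (2 ^ j)) = dec w a * dec w (2 ^ j) := by
    intro a ha j hj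
    have hj8 : 2 ^ j < 8 := by interval_cases j <;> norm_num
    have x4 : ∀ p q, p < 8 → q < 8 → Nat.xor p q < 8 := fun p q hp hq => Nat.xor_lt_two_pow (n := 3) hp hq
    have c4 : ∀ (b : Bool) (v : ℕ), v < 8 → cond b v 0 < 8 := fun b v hv => by cases b <;> simp [hv]
    have hc : ∀ (bb : Bool) i, i < 3 →
        dec w (mulC (cond bb (2 ^ i) 0) (2 ^ j)) = dec w (cond bb (2 ^ i) 0) * dec w (2 ^ j) := by
      intro bb i hi
      cases bb
      · simp only [cond_false]
        rw [(hz _ hj8).1, (dec_basics w).1, zero_mul]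
      · exact hb3 i hi j hj
    rw [hlin a ha, (hsplit _ (x4 _ _ (c4 _ (2 ^ 0) (by norm_num)) (c4 _ (2 ^ 1) (by norm_num))) _ (c4 _ (2 ^ 2) (by norm_num))
      _ hj8).1, (hsplit _ (c4 _ (2 ^ 0) (by norm_num)) _ (c4 _ (2 ^ 1) (by norm_num)) _ hj8).1,
      dec_xor w h2, dec_xor w h2, dec_xor w h2, dec_xor w h2,
      hc _ 0 (by norm_num), hc _ 1 (by norm_num), hc _ 2 (by norm_num)]
    ring
  have x4 : ∀ p q, p < 8 → q < 8 → Nat.xor p q < 8 := fun p q hp hq => Nat.xor_lt_two_pow (n := 3) hp hq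
  have c4 : ∀ (bb : Bool) (v : ℕ), v < 8 → cond bb v 0 < 8 := fun bb v hv => by cases bb <;> simp [hv]
  have hc : ∀ (bb : Bool) j, j < 3 →
      dec w (mulC a (cond bb (2 ^ j) 0)) = dec w a * dec w (cond bb (2 ^ j) 0) := by
    intro bb j hj
    cases bb
    · simp only [cond_false]
      rw [(hz _ ha).2, (dec_basics w).1, mul_zero]
    · exact hone a ha j hj
  rw [hlin b hb, (hsplit _ (x4 _ _ (c4 _ (2 ^ 0) (by norm_num)) (c4 _ (2 ^ 1) (by norm_num))) _ (c4 _ (2 ^ 2) (by norm_num))
    _ ha).2, (hsplit _ (c4 _ (2 ^ 0) (by norm_num)) _ (c4 _ (2 ^ 1) (by norm_num)) _ ha).2,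
    dec_xor w h2, dec_xor w h2, dec_xor w h2, dec_xor w h2,
    hc _ 0 (by norm_num), hc _ 1 (by norm_num), hc _ 2 (by norm_num)]
  ring

include hw h2 in
omit [Fintype F] in
theorem dec_ne_zero {a : ℕ} (ha : a < 8) (h0 : a ≠ 0) : dec w a ≠ 0 := by
  have hinv : ∀ a, a < 8 → a ≠ 0 → ∃ b, b < 8 ∧ mulC a b = 1 := by decide +kernel
  obtain ⟨b, hb, hab⟩ := hinv a ha h0
  intro h
  have := dec_mul w hw h2 ha hb
  rw [hab, (dec_basics w).2, h, zero_mul] at this
  exact one_ne_zero this

include hw h2 in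
omit [Fintype F] in
theorem dec_injOn {a b : ℕ} (ha : a < 8) (hb : b < 8) (h : dec w a = dec w b) : a = b := by
  by_contra hne
  refine dec_ne_zero w hw h2 (Nat.xor_lt_two_pow (n := 3) ha hb) (fun e => hne (Nat.xor_eq_zero_iff.mp e)) ?_
  show dec w (Nat.xor a b) = 0
  rw [dec_xor w h2, h, two_zero h2]

include hF hw h2 in
theorem dec_surjective (x : F) : ∃ c, c < 8 ∧ dec w c = x := by
  classical
  have hb : Function.Bijective (fun c : Fin 8 => dec w c) := by
    rw [Fintype.bijective_iff_injective_and_card]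
    exact ⟨fun a b h => Fin.ext (dec_injOn w hw h2 a.2 b.2 h), by simp [hF]⟩
  obtain ⟨c, hc⟩ := hb.2 x
  exact ⟨c, c.2, hc⟩

include hw h2 in
omit [Fintype F] in
theorem dec_pow4 {a : ℕ} (ha : a < 8) : dec w (pow4 a) = dec w a ^ 4 := by
  rw [pow4, dec_mul w hw h2 (getField_lt _ _ _) (getField_lt _ _ _), dec_mul w hw h2 ha ha]
  ring

include hw h2 in
omit [Fintype F] in
theorem dec_p0C {a b : ℕ} (ha : a < 8) (hb : b < 8) :
    dec w (p0C a b) = dec w a * dec w b + dec w a ^ 6 + dec w b ^ 4 := by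
  rw [p0C, dec_xor w h2, dec_xor w h2, dec_mul w hw h2 ha hb, dec_pow4 w hw h2 hb, pow6,
    dec_mul w hw h2 (getField_lt _ _ _) (getField_lt _ _ _), dec_pow4 w hw h2 ha,
    dec_mul w hw h2 ha ha]
  ring

theorem mk4_field {a b c d : ℕ} (ha : a < 8) (hb : b < 8) (hc : c < 8) (hd : d < 8) :
    getField 3 (mk4 a b c d) 0 = a ∧ getField 3 (mk4 a b c d) 1 = b ∧
    getField 3 (mk4 a b c d) 2 = c ∧ getField 3 (mk4 a b c d) 3 = d := by
  simp only [getField_eq, mk4, Nat.mul_eq, Nat.add_eq]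
  norm_num
  omega

omit [Fintype F] in
theorem decV_mk4 {a b c d : ℕ} (ha : a < 8) (hb : b < 8) (hc : c < 8) (hd : d < 8) :
    decV w (mk4 a b c d) = ![dec w a, dec w b, dec w c, dec w d] := by
  obtain ⟨e0, e1, e2, e3⟩ := mk4_field ha hb hc hd
  funext i
  fin_cases i
  · exact congrArg (dec w) e0
  · exact congrArg (dec w) e1
  · exact congrArg (dec w) e2
  · exact congrArg (dec w) e3

include hw h2 in
omit [Fintype F] in
theorem decV_smul {a : ℕ} (ha : a < 8) (c : ℕ) : decV w (smulC a c) = dec w a • decV w c := by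
  rw [smulC, decV_mk4 w (getField_lt _ _ _) (getField_lt _ _ _) (getField_lt _ _ _) (getField_lt _ _ _)]
  funext i
  fin_cases i <;> exact dec_mul w hw h2 ha (getField_lt _ _ _)

variable (hG : Good F 1)

/-- An atom. -/
noncomputable def atom (t : ℕ) : Cfsg.Sz F 1 :=
  if t = 0 then Suzuki.J hG else Suzuki.T hG (dec w ((t - 1) / 8)) (dec w ((t - 1) % 8))

include hw h2 in
omit [Fintype F] in
theorem trImg_spec {a b : ℕ} (ha : a < 8) (hb : b < 8) (c : ℕ) :
    transl 1 (dec w a) (dec w b) (decV w c) = decV w (trImg a b c) := by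
  have x8 : ∀ p q, p < 8 → q < 8 → Nat.xor p q < 8 := fun p q hp hq => Nat.xor_lt_two_pow (n := 3) hp hq
  have hm : ∀ p q, mulC p q < 8 := fun p q => getField_lt _ _ _
  have hg : ∀ i, getField 3 c i < 8 := fun i => getField_lt _ _ _
  rw [trImg, decV_mk4 w (x8 _ _ (x8 _ _ (x8 _ _ (hg 0) (hm _ _)) (hm _ _)) (hm _ _))
    (x8 _ _ (x8 _ _ (hg 1) (hm _ _)) (hm _ _)) (x8 _ _ (hg 2) (hm _ _)) (hg 3)]
  simp only [dec_xor w h2, dec_mul w hw h2 ha (hg _), dec_mul w hw h2 hb (hg _),
    dec_mul w hw h2 (show pow4 a < 8 from getField_lt _ _ _) (hg _),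
    dec_mul w hw h2 (x8 _ _ hb (hm _ _)) (hg _),
    dec_mul w hw h2 (show p0C a b < 8 from x8 _ _ (x8 _ _ (hm _ _) (hm _ _)) (hm _ _)) (hg _),
    dec_mul w hw h2 ha (show pow4 a < 8 from getField_lt _ _ _),
    dec_p0C w hw h2 ha hb, dec_pow4 w hw h2 ha]
  funext i
  fin_cases i <;> simp [transl, decV, vPt]

include hw h2 in
theorem atom_mulVec {t : ℕ} (ht : t < 65) (c : ℕ) :
    ((atom w hG t : SpecialLinearGroup (Fin 4) F) : Matrix (Fin 4) (Fin 4) F) *ᵥ decV w c =
      decV w (atImg t c) := by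
  unfold atom atImg
  by_cases h0 : t = 0
  · subst h0
    rw [if_pos rfl, show Nat.beq 0 0 = true from rfl, cond_true, coe_J, revMat_mulVec,
      decV_mk4 w (getField_lt _ _ _) (getField_lt _ _ _) (getField_lt _ _ _) (getField_lt _ _ _)]
    rfl
  · rw [if_neg h0, show Nat.beq t 0 = false from Bool.eq_false_iff.mpr (by simpa [Nat.beq_eq] using h0),
      cond_false, coe_T, translMat_mulVec]
    exact trImg_spec w hw h2 (by omega) (Nat.mod_lt _ (by norm_num)) c

include hw h2 in
theorem evalW_mulVec : ∀ (wd : List ℕ), (∀ t ∈ wd, t < 65) → ∀ c,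
    (((evalW (atom w hG) wd : Cfsg.Sz F 1) : SpecialLinearGroup (Fin 4) F) : Matrix (Fin 4) (Fin 4) F) *ᵥ decV w c =
      decV w (atApp wd c)
  | [], _, c => by simp [evalW, atApp]
  | t :: wd, h, c => by
    rw [evalW_cons, Subgroup.coe_mul, Matrix.SpecialLinearGroup.coe_mul, ← Matrix.mulVec_mulVec,
      evalW_mulVec wd (fun s hs => h s (by simp [hs])) c, atom_mulVec w hw h2 hG (h t (by simp))]
    rfl

/-- The numbering of the points of the ovoid. -/
noncomputable def pnt (p : Fin 65) : Cfsg.suzukiOvoid F 1 :=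
  if (p : ℕ) = 0 then pI else pP (dec w (((p : ℕ) - 1) / 8)) (dec w (((p : ℕ) - 1) % 8))

include hw h2 in
theorem pnt_eq (p : Fin 65) : ∃ hv hq,
    pnt w p = (⟨Projectivization.mk F (decV w (getField 12 ptCode p)) hv, hq⟩ : Cfsg.suzukiOvoid F 1) := by
  have h := pts_ok
  simp only [Bool.and_eq_true, Nat.beq_eq, allBelow_eq_true] at h
  unfold pnt
  by_cases h0 : (p : ℕ) = 0
  · have e : decV w (getField 12 ptCode p) = vInf F := by
      rw [h0, h.1]
      funext i
      fin_cases i <;> simp [decV, getField, dec, bitF, vInf, Nat.testBit_eq_decide_div_mod_eq]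
    rw [if_pos h0]
    refine ⟨e ▸ vInf_ne_zero, ?_, ?_⟩
    · simp only [e]
      exact (mem_suzukiOvoid _).mpr onOvoid_inf
    · simp only [e]
      rfl
  · have hq := h.2 ((p : ℕ) - 1) (by omega)
    rw [show Nat.add ((p : ℕ) - 1) 1 = p from Nat.sub_add_cancel (Nat.pos_of_ne_zero h0)] at hq
    have ha : ((p : ℕ) - 1) / 8 < 8 := by omega
    have hb : ((p : ℕ) - 1) % 8 < 8 := Nat.mod_lt _ (by norm_num)
    have e : decV w (getField 12 ptCode p) = vPt 1 (dec w (((p : ℕ) - 1) / 8)) (dec w (((p : ℕ) - 1) % 8)) := by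
      rw [hq, show Nat.div ((p : ℕ) - 1) 8 = ((p : ℕ) - 1) / 8 from rfl,
        show Nat.mod ((p : ℕ) - 1) 8 = ((p : ℕ) - 1) % 8 from rfl,
        decV_mk4 w (show p0C _ _ < 8 from Nat.xor_lt_two_pow (n := 3)
          (Nat.xor_lt_two_pow (n := 3) (getField_lt _ _ _) (getField_lt _ _ _)) (getField_lt _ _ _)) hb ha
          (by norm_num),
        dec_p0C w hw h2 ha hb, (dec_basics w).2]
      rfl
    rw [if_neg h0]
    refine ⟨e ▸ vPt_ne_zero _ _, ?_, ?_⟩
    · simp only [e]
      exact (mem_suzukiOvoid _).mpr (onOvoid_pt _ _)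
    · simp only [e]
      rfl

include hF hw h2 in
/-- The points of the ovoid as an equivalence. -/
noncomputable def ev : Fin 65 ≃ Cfsg.suzukiOvoid F 1 :=
  Equiv.ofBijective (pnt w) (by
    classical
    haveI : Fintype (Cfsg.suzukiOvoid F 1) := Fintype.ofFinite _
    rw [Fintype.bijective_iff_surjective_and_card]
    refine ⟨fun q => ?_, by rw [Fintype.card_fin, ← Nat.card_eq_fintype_card, card_ovoid, hF]; norm_num⟩
    rcases point_cases q with rfl | ⟨x, y, rfl⟩
    · exact ⟨⟨0, by norm_num⟩, if_pos rfl⟩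
    · obtain ⟨a, ha, rfl⟩ := dec_surjective hF w hw h2 x
      obtain ⟨b, hb, rfl⟩ := dec_surjective hF w hw h2 y
      refine ⟨⟨8 * a + b + 1, by omega⟩, ?_⟩
      rw [pnt, if_neg (by simp)]
      simp only [Nat.add_sub_cancel, show (8 * a + b) / 8 = a by omega, show (8 * a + b) % 8 = b by omega])

/-- The action on the 65 points. -/
noncomputable def ι : Cfsg.Sz F 1 →* Equiv.Perm (Fin 65) :=
  ((ev hF w hw h2).symm.permCongrHom).toMonoidHom.comp
    (MulAction.toPermHom (Cfsg.Sz F 1) (Cfsg.suzukiOvoid F 1))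

theorem ι_injective : Function.Injective (ι hF w hw h2) := by
  refine (ev hF w hw h2).symm.permCongrHom.injective.comp ((injective_iff_map_eq_one _).mpr fun g hg => ?_)
  have hm : 1 ≤ 1 := le_rfl
  have hF' : Fintype.card F = 2 ^ (2 * 1 + 1) := by rw [hF]; norm_num
  exact faithful hm hF' (good_of_card hF') fun p => by
    have := congrArg (fun σ : Equiv.Perm (Cfsg.suzukiOvoid F 1) => σ p) hg
    simpa using this

/-- The generators. -/
noncomputable def gen (s : ℕ) : Cfsg.Sz F 1 :=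
  if s < 3 then evalW (atom w hG) (atWords.getD s []) else 1

theorem gen_coded : Coded (w := 7) (k := 3) (ι hF w hw h2) (gen w hG) codes := by
  intro s hs p
  have h := allBelow_eq_true.mp gens_ok s hs
  simp only [Bool.and_eq_true, allBelow_eq_true, Nat.blt_eq, Nat.beq_eq] at h
  obtain ⟨hwd, hp⟩ := h
  obtain ⟨⟨hlt, ha⟩, he⟩ := hp p p.2
  have hwd' : ∀ t ∈ atWords.getD s [], t < 65 := fun t ht => by
    simpa [Nat.blt_eq] using allB_spec hwd t ht
  suffices ι hF w hw h2 (gen w hG s) p = ⟨_, hlt⟩ from congrArg Fin.val this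
  show (ev hF w hw h2).symm (gen w hG s • (ev hF w hw h2).symm.symm p) = _
  rw [Equiv.symm_symm, Equiv.symm_apply_eq, gen, if_pos hs]
  show evalW (atom w hG) (atWords.getD s []) • pnt w p = pnt w _
  obtain ⟨hv, hq, e1⟩ := pnt_eq w hw h2 p
  obtain ⟨hv', hq', e2⟩ := pnt_eq w hw h2 ⟨_, hlt⟩
  rw [e1, e2]
  refine smul_eq_of_mulVec _ hv hv' (c := dec w (getField 3 (scaCodes.getD s 0) p)) ?_
  rw [evalW_mulVec w hw h2 hG _ hwd', he, decV_smul w hw h2 (getField_lt _ _ _)]

include hF in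
theorem card_group : Nat.card (Cfsg.Sz F 1) = 29120 := by
  rw [card_eq le_rfl (by rw [hF]; norm_num), Nat.card_eq_fintype_card, hF]
  norm_num

theorem hlt : ∀ b ∈ base, b < 65 := fun b hb => by simpa [Nat.blt_eq] using allB_spec blt_ok b hb

include hF hw h2 in
theorem gen_generates (x : Cfsg.Sz F 1) : x ∈ Submonoid.closure (gen w hG '' {s | s < 3}) :=
  generates_of_card (gen_coded hF w hw h2 hG) wf_ok below_ok hlt distinct_ok
    (shape_ok.2.2.trans (card_group hF).symm) x

end Field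

/-- The homomorphism from a cyclic group given by an element. -/
noncomputable def zmodHom {A : Type*} [CommGroup A] (n : ℕ) (a : A) (h : a ^ n = 1) :
    Multiplicative (ZMod n) →* A :=
  AddMonoidHom.toMultiplicativeLeft (ZMod.lift n
    ⟨zmultiplesHom (Additive A) (Additive.ofMul a), by
      simp only [zmultiplesHom_apply, natCast_zsmul]
      exact congrArg Additive.ofMul h⟩)

theorem zmodHom_apply {A : Type*} [CommGroup A] (n : ℕ) (a : A) (h : a ^ n = 1) (z : ℤ) :
    zmodHom n a h (Multiplicative.ofAdd (z : ZMod n)) = a ^ z := by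
  show Additive.toMul (ZMod.lift n _ (z : ZMod n)) = _
  rw [ZMod.lift_coe]
  rfl

/-- The homomorphism from the four-group given by two commuting involutions. -/
noncomputable def pairHom {A : Type*} [CommGroup A] (a b : A) (ha : a ^ 2 = 1) (hb : b ^ 2 = 1) :
    Multiplicative (ZMod 2 × ZMod 2) →* A :=
  ((zmodHom 2 a ha).comp (AddMonoidHom.toMultiplicative (AddMonoidHom.fst (ZMod 2) (ZMod 2)))) *
    ((zmodHom 2 b hb).comp (AddMonoidHom.toMultiplicative (AddMonoidHom.snd (ZMod 2) (ZMod 2))))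

theorem pairHom_apply {A : Type*} [CommGroup A] (a b : A) (ha : a ^ 2 = 1) (hb : b ^ 2 = 1) (x y : ℤ) :
    pairHom a b ha hb (Multiplicative.ofAdd ((x : ZMod 2), (y : ZMod 2))) = a ^ x * b ^ y := by
  rw [← zmodHom_apply 2 a ha, ← zmodHom_apply 2 b hb]
  rfl

theorem rep_mul (a b : ℕ) : rep4.mul a b = sMul 12 585 a b := by
  unfold rep4 sheetRep
  with_reducible rfl

theorem rep_one : rep4.one = sId 12 585 := by
  unfold rep4 sheetRep
  with_reducible rfl

theorem act4 {c : ℕ} (hc : rep4.Ok c) (x : Fin 2340) :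
    ((rep4.den c x : Fin 2340) : ℕ) = sAct 12 c x :=
  sDen_apply (w := 12) (n := 585) (N := 2340) (hN := rfl) hc x

theorem lift_spec {s : ℕ} (hs : s < 3) :
    lifts.getD s 0 ∈ topGens coverChain ∧ rep4.Ok (lifts.getD s 0) ∧
    (rep4.Ok (liftInvs.getD s 0) ∧
      rep4.den (liftInvs.getD s 0) = (rep4.den (lifts.getD s 0))⁻¹) ∧
    ∀ q < 65, sAct 12 (lifts.getD s 0) (4 * q) = 4 * getField 7 (codes.getD s 0) q := by
  have h := allBelow_eq_true.mp cover_codes s hs
  simp only [Bool.and_eq_true, allBelow_eq_true, Nat.beq_eq, memB_eq_true] at h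
  obtain ⟨⟨⟨⟨hm, hok⟩, hoki⟩, hinv⟩, hq⟩ := h
  have ho := rep4.okb_sound _ hok
  have hoi := rep4.okb_sound _ hoki
  refine ⟨hm, ho, ⟨hoi, eq_inv_of_mul_eq_one_left ?_⟩, hq⟩
  rw [← rep4.den_mul _ _ hoi ho, rep_mul, hinv, ← rep_one]
  exact rep4.den_one

theorem cent_spec {r : ℕ} (hr : r < 2) :
    rep4.Ok (centCodes.getD r 0) ∧
    (∀ p ∈ centPairs.getD r [], p.1 < 3 ∧ p.2 < 3) ∧
    commCode (centPairs.getD r []) = centCodes.getD r 0 ∧
    rep4.den (centCodes.getD r 0) ^ 2 = 1 ∧
    sAct 12 (centCodes.getD r 0) 260 = 261 + r ∧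
    (∀ q < 65, sAct 12 (centCodes.getD r 0) (4 * q) = 4 * q) ∧
    ∀ s < 3, rep4.den (lifts.getD s 0) * rep4.den (centCodes.getD r 0) =
      rep4.den (centCodes.getD r 0) * rep4.den (lifts.getD s 0) := by
  have h := allBelow_eq_true.mp cent_codes r hr
  simp only [Bool.and_eq_true, allBelow_eq_true, Nat.beq_eq] at h
  obtain ⟨⟨⟨⟨⟨⟨hok, hp⟩, hc⟩, hsq⟩, h260⟩, hcomm⟩, hfix⟩ := h
  have ho := rep4.okb_sound _ hok
  refine ⟨ho, fun p hp' => by simpa [Nat.blt_eq] using allB_spec hp p hp', hc, ?_, h260, hfix,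
    fun s hs => ?_⟩
  · rw [pow_two, ← rep4.den_mul _ _ ho ho, rep_mul, hsq, ← rep_one, rep4.den_one]
  · obtain ⟨-, hl, -, -⟩ := lift_spec hs
    rw [← rep4.den_mul _ _ hl ho, ← rep4.den_mul _ _ ho hl, rep_mul, rep_mul, hcomm s hs]

theorem cent_free {a b : ℕ} (ha : a < 2) (hb : b < 2)
    (h : rep4.den (centCodes.getD 0 0) ^ a * rep4.den (centCodes.getD 1 0) ^ b = 1) : a = 0 ∧ b = 0 := by
  have e := congrArg (fun σ : Equiv.Perm (Fin 2340) => (σ ⟨260, by norm_num⟩ : ℕ)) h
  obtain ⟨h0, -, -, -, e0, -, -⟩ := cent_spec (r := 0) (by norm_num)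
  obtain ⟨h1, -, -, -, e1, -, -⟩ := cent_spec (r := 1) (by norm_num)
  have e2 := Nat.eq_of_beq_eq_true cent_both
  interval_cases a <;> interval_cases b <;>
    simp only [pow_zero, pow_one, one_mul, mul_one, Equiv.Perm.mul_apply, Equiv.Perm.one_apply,
      act4 h0, act4 h1] at e
  · exact ⟨rfl, rfl⟩
  · omega
  · omega
  · omega

section Cover

variable {F : Type u} [Field F] [Fintype F] (w : F) (hG : Good F 1)

/-- The cover, inside the product with the permutations of 2340 points. -/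
noncomputable def cover :
    Subgroup (Cfsg.Sz F 1 × Equiv.Perm (Fin 2340)) :=
  Subgroup.closure ((fun s => (gen w hG s, rep4.den (lifts.getD s 0))) '' {s | s < 3})

/-- The lifted generators. -/
noncomputable def lift (s : ℕ) : cover w hG :=
  if hs : s < 3 then ⟨(gen w hG s, rep4.den (lifts.getD s 0)), Subgroup.subset_closure ⟨s, hs, rfl⟩⟩
  else 1

theorem lift_val {s : ℕ} (hs : s < 3) :
    (lift w hG s).1 = (gen w hG s, rep4.den (lifts.getD s 0)) := by
  simp only [lift, dif_pos hs]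

/-- The covering map. -/
noncomputable def proj : cover w hG →* Cfsg.Sz F 1 :=
  (MonoidHom.fst _ _).comp (cover w hG).subtype

theorem commCode_spec : ∀ l : List (ℕ × ℕ), (∀ p ∈ l, p.1 < 3 ∧ p.2 < 3) →
    rep4.Ok (commCode l) ∧ rep4.den (commCode l) = (commProd (lift w hG) l).1.2
  | [], _ => by
    rw [show commCode [] = sId 12 585 from rfl, ← rep_one]
    exact ⟨rep4.ok_one, rep4.den_one⟩
  | p :: l, h => by
    obtain ⟨ha, hb⟩ := h p (by simp)
    obtain ⟨ih1, ih2⟩ := commCode_spec l fun x hx => h x (by simp [hx])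
    obtain ⟨-, oa, ⟨oai, da⟩, -⟩ := lift_spec ha
    obtain ⟨-, ob, ⟨obi, db⟩, -⟩ := lift_spec hb
    have o1 := rep4.ok_mul _ _ oa ob
    have o2 := rep4.ok_mul _ _ o1 oai
    have o3 := rep4.ok_mul _ _ o2 obi
    have hcc : commCode (p :: l) = rep4.mul (rep4.mul (rep4.mul (rep4.mul (lifts.getD p.1 0)
        (lifts.getD p.2 0)) (liftInvs.getD p.1 0)) (liftInvs.getD p.2 0)) (commCode l) := by
      simp only [rep_mul]
      rfl
    rw [hcc]
    refine ⟨rep4.ok_mul _ _ o3 ih1, ?_⟩
    rw [rep4.den_mul _ _ o3 ih1, rep4.den_mul _ _ o2 obi, rep4.den_mul _ _ o1 oai,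
      rep4.den_mul _ _ oa ob, da, db, ih2,
      show commProd (lift w hG) (p :: l) = ⁅lift w hG p.1, lift w hG p.2⁆ * commProd (lift w hG) l from rfl,
      commutatorElement_def]
    simp only [Subgroup.coe_mul, Subgroup.coe_inv, lift_val w hG ha, lift_val w hG hb, Prod.snd_mul,
      Prod.snd_inv]

/-- The central elements. -/
noncomputable def zc (r : ℕ) : cover w hG := commProd (lift w hG) (centPairs.getD r [])

theorem zc_snd {r : ℕ} (hr : r < 2) : (zc w hG r).1.2 = rep4.den (centCodes.getD r 0) := by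
  obtain ⟨-, hp, hc, -⟩ := cent_spec hr
  rw [zc, ← (commCode_spec w hG _ hp).2, hc]

theorem zc_mem_commutator (r : ℕ) : zc w hG r ∈ commutator (cover w hG) :=
  list_prod_mem fun y hy => by
    obtain ⟨p, -, rfl⟩ := List.mem_map.mp hy
    exact Subgroup.commutator_mem_commutator (Subgroup.mem_top _) (Subgroup.mem_top _)

variable (hF : Fintype.card F = 8) (hw : w * w * w = w + 1) (h2 : (1 : F) + 1 = 0)

include hF hw h2 in
theorem compat (y : cover w hG) : ∀ q : Fin 65,
    (y.1.2 ⟨4 * (q : ℕ), by omega⟩ : ℕ) = 4 * (ι hF w hw h2 y.1.1 q : ℕ) := by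
  have hy : y.1 ∈ Subgroup.closure ((fun s => (gen w hG s, rep4.den (lifts.getD s 0))) '' {s | s < 3}) := y.2
  rw [← Subgroup.mem_toSubmonoid, Subgroup.closure_toSubmonoid_of_finite] at hy
  generalize y.1 = z at hy ⊢
  induction hy using Submonoid.closure_induction with
  | mem t ht =>
    obtain ⟨s, hs, rfl⟩ := ht
    intro q
    obtain ⟨-, ho, -, hq⟩ := lift_spec hs
    show (rep4.den (lifts.getD s 0) _ : ℕ) = 4 * (ι hF w hw h2 (gen w hG s) q : ℕ)
    rw [act4 ho, gen_coded hF w hw h2 hG s hs]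
    exact hq q q.2
  | one => exact fun q => by simp
  | mul a b _ _ ha hb =>
    intro q
    show (a.2 (b.2 _) : ℕ) = 4 * (ι hF w hw h2 (a.1 * b.1) q : ℕ)
    rw [map_mul, Equiv.Perm.mul_apply, ← ha (ι hF w hw h2 b.1 q)]
    exact congrArg (fun x => (a.2 x : ℕ)) (Fin.ext (hb q))

include hF hw h2 in
theorem snd_injective : Function.Injective (fun y : cover w hG => y.1.2) := by
  have key : ∀ y : cover w hG, y.1.2 = 1 → y = 1 := fun y hy => by
    refine Subtype.ext (Prod.ext (ι_injective hF w hw h2 ?_) hy)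
    rw [Subgroup.coe_one, Prod.fst_one, map_one]
    refine Equiv.ext fun q => Fin.ext ?_
    have h := compat w hG hF hw h2 y q
    rw [hy] at h
    simp only [Equiv.Perm.one_apply] at h
    simp only [Equiv.Perm.one_apply]
    omega
  intro a b hab
  refine inv_mul_eq_one.mp (key (a⁻¹ * b) ?_)
  show (a.1.2)⁻¹ * b.1.2 = 1
  rw [show a.1.2 = b.1.2 from hab, inv_mul_cancel]

include hF hw h2 in
theorem zc_ker {r : ℕ} (hr : r < 2) : zc w hG r ∈ (proj w hG).ker := by
  rw [MonoidHom.mem_ker]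
  refine ι_injective hF w hw h2 (Equiv.ext fun q => Fin.ext ?_)
  obtain ⟨ho, -, -, -, -, hfix, -⟩ := cent_spec hr
  have h := compat w hG hF hw h2 (zc w hG r) q
  rw [zc_snd w hG hr, act4 ho, hfix q q.2] at h
  rw [map_one]
  show (ι hF w hw h2 (zc w hG r).1.1 q : ℕ) = q
  omega

include hF hw h2 in
theorem zc_center {r : ℕ} (hr : r < 2) : zc w hG r ∈ Subgroup.center (cover w hG) := by
  rw [Subgroup.mem_center_iff]
  intro y
  refine snd_injective w hG hF hw h2 ?_
  show y.1.2 * (zc w hG r).1.2 = (zc w hG r).1.2 * y.1.2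
  rw [zc_snd w hG hr]
  have hle : cover w hG ≤ (Subgroup.centralizer {rep4.den (centCodes.getD r 0)}).comap
      (MonoidHom.snd _ _) := by
    rw [cover, Subgroup.closure_le]
    rintro _ ⟨s, hs, rfl⟩
    rw [SetLike.mem_coe, Subgroup.mem_comap, Subgroup.mem_centralizer_iff]
    rintro _ rfl
    exact ((cent_spec hr).2.2.2.2.2.2 s hs).symm
  exact (Subgroup.mem_centralizer_iff.mp (hle y.2) _ rfl).symm

include hF hw h2 in
theorem card_cover_le : Nat.card (cover w hG) ≤ 116480 := by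
  rw [← cover_size, ← rep4.card_chainGroup coverChain cover_check]
  have hle : cover w hG ≤ (rep4.chainGroup coverChain).comap (MonoidHom.snd _ _) := by
    rw [cover, Subgroup.closure_le]
    rintro _ ⟨s, hs, rfl⟩
    exact rep4.den_mem_span (lift_spec hs).1
  refine Nat.card_le_card_of_injective (fun y => ⟨y.1.2, hle y.2⟩) fun a b h => ?_
  exact snd_injective w hG hF hw h2 (congrArg Subtype.val h)

include hF hw h2 in
theorem proj_surjective : Function.Surjective (proj w hG) := by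
  intro x
  have hx := gen_generates hF w hw h2 hG x
  induction hx using Submonoid.closure_induction with
  | mem t ht =>
    obtain ⟨s, hs, rfl⟩ := ht
    exact ⟨lift w hG s, congrArg Prod.fst (lift_val w hG hs)⟩
  | one => exact ⟨1, map_one _⟩
  | mul a b _ _ ha hb =>
    obtain ⟨a', rfl⟩ := ha
    obtain ⟨b', rfl⟩ := hb
    exact ⟨a' * b', map_mul _ _ _⟩

include hF hw h2 hG in
theorem exists_stem : ∃ (Γ : Type u) (_ : Group Γ) (_ : Finite Γ) (σ : Γ →* Cfsg.Sz F 1),
    Cfsg.IsStemExtension σ ∧ Nonempty (σ.ker ≃* Multiplicative (ZMod 2 × ZMod 2)) := by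
  letI : CommGroup (Subgroup.center (cover w hG)) :=
    { (inferInstance : Group (Subgroup.center (cover w hG))) with
      mul_comm := fun a b => Subtype.ext (Subgroup.mem_center_iff.mp b.2 a) }
  let Z : ℕ → Subgroup.center (cover w hG) := fun r =>
    if hr : r < 2 then ⟨zc w hG r, zc_center w hG hF hw h2 hr⟩ else 1
  have hZ : ∀ r (hr : r < 2), (Z r : cover w hG) = zc w hG r := fun r hr => by
    simp only [Z, dif_pos hr]
  have hsnd : ∀ r, r < 2 → ∀ n : ℕ, ((Z r : cover w hG) ^ n).1.2 = rep4.den (centCodes.getD r 0) ^ n :=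
    fun r hr n => by rw [Subgroup.coe_pow, Prod.pow_snd, hZ r hr, zc_snd w hG hr]
  have hpw : ∀ r, r < 2 → Z r ^ 2 = 1 := fun r hr => by
    apply Subtype.ext
    apply snd_injective w hG hF hw h2
    show ((Z r ^ 2 : Subgroup.center (cover w hG)) : cover w hG).1.2 = _
    rw [Subgroup.coe_pow, hsnd r hr, (cent_spec hr).2.2.2.1]
    rfl
  let φ := pairHom (Z 0) (Z 1) (hpw 0 (by norm_num)) (hpw 1 (by norm_num))
  let π : Multiplicative (ZMod 2 × ZMod 2) →* cover w hG := (Subgroup.center _).subtype.comp φ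
  have hval : ∀ v : ZMod 2 × ZMod 2, π (Multiplicative.ofAdd v) =
      (Z 0 : cover w hG) ^ v.1.val * (Z 1 : cover w hG) ^ v.2.val := by
    rintro ⟨x, y⟩
    have e := pairHom_apply (Z 0) (Z 1) (hpw 0 (by norm_num)) (hpw 1 (by norm_num)) (x.val : ℤ) (y.val : ℤ)
    simp only [Int.cast_natCast, ZMod.natCast_zmod_val, zpow_natCast] at e
    show ((φ _ : Subgroup.center (cover w hG)) : cover w hG) = _
    rw [e]
    simp
  have hinj : Function.Injective π := by
    rw [injective_iff_map_eq_one]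
    intro v hv
    rw [← ofAdd_toAdd v, hval] at hv
    have := congrArg (fun y : cover w hG => y.1.2) hv
    simp only [Subgroup.coe_mul, Prod.snd_mul, hsnd 0 (by norm_num), hsnd 1 (by norm_num),
      Subgroup.coe_one, Prod.snd_one] at this
    obtain ⟨a, b⟩ := cent_free (ZMod.val_lt _) (ZMod.val_lt _) this
    rw [ZMod.val_eq_zero] at a b
    rw [← ofAdd_toAdd v, ← ofAdd_zero]
    exact congrArg _ (Prod.ext a b)
  have hrange : π.range ≤ (proj w hG).ker := by
    rintro _ ⟨v, rfl⟩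
    rw [← ofAdd_toAdd v, hval]
    refine mul_mem (pow_mem ?_ _) (pow_mem ?_ _) <;>
      rw [hZ _ (by norm_num)] <;> exact zc_ker w hG hF hw h2 (by norm_num)
  have hcard : Nat.card π.range = 4 := by
    rw [← Nat.card_congr (MonoidHom.ofInjective hinj).toEquiv]
    simp [Nat.card_eq_fintype_card]
  have hker : (proj w hG).ker = π.range := by
    refine (Subgroup.eq_of_le_of_card_ge hrange ?_).symm
    have h1 := Subgroup.card_mul_index (proj w hG).ker
    rw [Subgroup.index_ker, MonoidHom.range_eq_top.mpr (proj_surjective w hG hF hw h2), Subgroup.card_top,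
      card_group hF] at h1
    have h3 := card_cover_le w hG hF hw h2
    rw [hcard]
    generalize Nat.card (proj w hG).ker = c at h1 ⊢
    omega
  refine ⟨cover w hG, inferInstance, inferInstance, proj w hG,
    ⟨proj_surjective w hG hF hw h2, ?_, ?_⟩,
    ⟨(MulEquiv.subgroupCongr hker).trans (MonoidHom.ofInjective hinj).symm⟩⟩
  · rw [hker]
    rintro _ ⟨v, rfl⟩
    exact (φ v).2
  · rw [hker]
    rintro _ ⟨v, rfl⟩
    rw [← ofAdd_toAdd v, hval]
    refine mul_mem (pow_mem ?_ _) (pow_mem ?_ _) <;>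
      rw [hZ _ (by norm_num)] <;> exact zc_mem_commutator w hG _

include hF hw h2 hG in
theorem kernel_bound {Γ : Type u} [Group Γ] [Finite Γ] (σ : Γ →* Cfsg.Sz F 1)
    (hσ : Cfsg.IsStemExtension σ) :
    ∃ π : Multiplicative (ZMod 2 × ZMod 2) →* σ.ker, Function.Surjective π := by
  have hcard : numForms cert.D = Nat.card (Cfsg.Sz F 1) := shape_ok.2.2.trans (card_group hF).symm
  have hb := isBase_of_card (gen_coded hF w hw h2 hG) wf_ok below_ok hlt distinct_ok hcard
  obtain ⟨u, hu, hle⟩ := exists_generators (gen w hG) checked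
    (tableOK_of_check (gen_coded hF w hw h2 hG) hb wf_ok below_ok fun i hi =>
      allBelow_eq_true.mp table_ok i (shape_ok.1 ▸ hi))
    (faithful_of_distinct (gen_coded hF w hw h2 hG) wf_ok below_ok hlt distinct_ok)
    (gen_generates hF w hw h2 hG)
    (commProd_of_check (gen_coded hF w hw h2 hG) hb pow_ok below_ok commData_ok comm_ok)
    (by rw [card_group hF, shape_ok.2.1]) σ hσ
  letI : CommGroup σ.ker :=
    { (inferInstance : Group σ.ker) with
      mul_comm := fun a b => Subtype.ext (Subgroup.mem_center_iff.mp (hσ.2.1 b.2) a) }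
  have hords : multi.ords = [2, 2] := rfl
  have hlen : multi.ords.length = 2 := by rw [hords]; rfl
  let U : ℕ → σ.ker := fun r => if hr : r < multi.ords.length then ⟨u r, (hu r hr).1⟩ else 1
  have hU : ∀ r, r < 2 → (U r : Γ) = u r := fun r hr => by
    simp only [U, dif_pos (show r < multi.ords.length by omega)]
  have hUp : ∀ r, r < 2 → U r ^ 2 = 1 := fun r hr => by
    apply Subtype.ext
    rw [Subgroup.coe_pow, hU r hr]
    have := (hu r (by omega)).2
    interval_cases r <;> simpa [hords] using this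
  let φ := pairHom (U 0) (U 1) (hUp 0 (by norm_num)) (hUp 1 (by norm_num))
  refine ⟨φ, fun z => ?_⟩
  suffices (Subgroup.closure (u '' {r | r < multi.ords.length})) ≤ φ.range.map σ.ker.subtype by
    obtain ⟨y, ⟨x, hx⟩, hy⟩ := this (hle z.2)
    exact ⟨x, hx.trans (Subtype.ext hy)⟩
  rw [Subgroup.closure_le]
  rintro _ ⟨r, hr, rfl⟩
  have e0 := pairHom_apply (U 0) (U 1) (hUp 0 (by norm_num)) (hUp 1 (by norm_num)) 1 0
  have e1 := pairHom_apply (U 0) (U 1) (hUp 0 (by norm_num)) (hUp 1 (by norm_num)) 0 1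
  simp only [zpow_zero, zpow_one, mul_one, one_mul] at e0 e1
  have hr2 : r < 2 := by simpa [hlen] using hr
  rw [SetLike.mem_coe]
  refine ⟨U r, ?_, hU r hr2⟩
  interval_cases r
  exacts [⟨_, e0⟩, ⟨_, e1⟩]

include hF in
theorem multiplier : Cfsg.HasSchurMultiplier (Cfsg.Lie.Sz F 4) (Multiplicative (ZMod 2 × ZMod 2)) := by
  obtain ⟨w, hw, h2⟩ := exists_omega hF
  have hF' : Fintype.card F = 2 ^ (2 * 1 + 1) := by rw [hF]; norm_num
  have hG : Good F 1 := good_of_card hF'
  obtain ⟨e0⟩ := Suzuki.nonempty_equiv (m := 1) le_rfl hF'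
  let e : Cfsg.Sz F 1 ≃* Cfsg.Lie.Sz F 4 := e0
  have hker : ∀ {Γ : Type u} [Group Γ] {A B : Type u} [Group A] [Group B] (σ : Γ →* A) (f : A ≃* B),
      (f.toMonoidHom.comp σ).ker = σ.ker := fun σ f => by
    ext x; simp [MonoidHom.mem_ker]
  obtain ⟨Γ, i1, i2, σ, ⟨hs1, hs2⟩, ⟨f⟩⟩ := exists_stem w hG hF hw h2
  refine ⟨⟨Γ, i1, i2, e.toMonoidHom.comp σ, ⟨e.surjective.comp hs1, (hker σ e).symm ▸ hs2⟩,
    ⟨(MulEquiv.subgroupCongr (hker σ e)).trans f⟩⟩, fun Δ _ _ τ hτ => ?_⟩
  obtain ⟨π, hπ⟩ := kernel_bound w hG hF hw h2 (e.symm.toMonoidHom.comp τ)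
    ⟨e.symm.surjective.comp hτ.1, (hker τ e.symm).symm ▸ hτ.2⟩
  exact ⟨(MulEquiv.subgroupCongr (hker τ e.symm)).toMonoidHom.comp π,
    (MulEquiv.subgroupCongr (hker τ e.symm)).surjective.comp hπ⟩

end Cover

end Cfsg.Agent.Suzuki.EightMult
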