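import Cfsg.Agent.StemCert.Sheets
import Cfsg.Agent.Suzuki.EightMult.CoverData

/-! The stabiliser chain of the cover of Sz(8) is correct. -/

set_option autoImplicit false
set_option maxHeartbeats 0
set_option maxRecDepth 100000
set_option Elab.async false

namespace Cfsg.Agent.Suzuki.EightMult

open Cfsg.Agent.Compute

/-- Permutations of 585 blocks of four points. -/
noncomputable def rep4 : Rep (Equiv.Perm (Fin 2340)) (Fin 2340) :=
  StemCert.Sheets.sheetRep 12 585 2340 (by norm_num) (by norm_num) (by norm_num)

/-- The Schreier condition of the top level at one coset. -/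
noncomputable def topAt (j : ℕ) : Bool :=
  coverL0.gens.all (fun s =>
    Nat.blt (coverL0.pos (rep4.act (rep4.mul s (rep4.entry coverL0 j).u) coverL0.base))
      coverL0.size &&
    Nat.beq (rep4.sift [coverL0, coverL1, coverL2]
      (rep4.mul s (rep4.entry coverL0 j).u)) rep4.one)

theorem top_a : allBelow 13 (fun i => topAt (Nat.add i 0)) = true := by decide +kernel
theorem top_b : allBelow 13 (fun i => topAt (Nat.add i 13)) = true := by decide +kernel
theorem top_c : allBelow 13 (fun i => topAt (Nat.add i 26)) = true := by decide +kernel
theorem top_d : allBelow 13 (fun i => topAt (Nat.add i 39)) = true := by decide +kernel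
theorem top_e : allBelow 13 (fun i => topAt (Nat.add i 52)) = true := by decide +kernel

theorem top_rest : (Nat.blt coverL0.base rep4.n && Nat.blt 0 coverL0.size &&
    coverL0.gens.all rep4.okb &&
    (topGens [coverL1, coverL2]).all (fun g =>
      memB g coverL0.gens && Nat.beq (rep4.act g coverL0.base) coverL0.base) &&
    allBelow coverL0.size (rep4.checkEntry coverL0) && Nat.beq coverL0.size 65) = true := by
  decide +kernel

theorem level1_ok : rep4.checkLevel coverL1 [coverL2] = true := by decide +kernel
theorem level2_ok : rep4.checkLevel coverL2 [] = true := by decide +kernel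
theorem cover_size : chainSize coverChain = 116480 := by decide +kernel

theorem cover_check : rep4.checkChain coverChain = true := by
  have h := top_rest
  simp only [Bool.and_eq_true, Nat.beq_eq] at h
  obtain ⟨h0, hsz⟩ := h
  have hs : allBelow coverL0.size topAt = true := by
    rw [allBelow_eq_true, hsz]
    intro j hj
    have sh : ∀ c, allBelow 13 (fun i => topAt (Nat.add i c)) = true → c ≤ j → j < c + 13 →
        topAt j = true := fun c hc h1 h2 => by
      have := allBelow_eq_true.mp hc (j - c) (by omega)
      rwa [show Nat.add (j - c) c = j from Nat.sub_add_cancel h1] at this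
    by_cases h1 : j < 13
    · exact sh 0 top_a (by omega) (by omega)
    by_cases h2 : j < 26
    · exact sh 13 top_b (by omega) (by omega)
    by_cases h3 : j < 39
    · exact sh 26 top_c (by omega) (by omega)
    by_cases h4 : j < 52
    · exact sh 39 top_d (by omega) (by omega)
    · exact sh 52 top_e (by omega) (by omega)
  have l0 : rep4.checkLevel coverL0 [coverL1, coverL2] = true := by
    rw [Rep.checkLevel, Bool.and_eq_true]
    refine ⟨?_, hs⟩
    simp only [Bool.and_eq_true]
    exact h0
  show rep4.checkChain [coverL0, coverL1, coverL2] = true
  rw [Rep.checkChain_cons, Rep.checkChain_cons, Rep.checkChain_cons, l0, level1_ok, level2_ok]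
  rfl

end Cfsg.Agent.Suzuki.EightMult
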